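import Cfsg.Agent.Lib.Char.Burnside
import Cfsg.Agent.Lib.Char.PBlock
import Cfsg.Agent.Lib.Blocks.Section
import Cfsg.Agent.Lib.Components.Signal
import Cfsg.Agent.Lib.Struct.PLen
import Cfsg.Agent.Lib.Char.DefectZero

/-! # Kazarin's theorem: a class of prime power size has solvable normal closure.

The proof follows Burnside's argument inside the principal `r`-block. -/

set_option autoImplicit false

namespace Cfsg.Agent.Lib.Lead.Kazarin

open Cfsg Subgroup Cfsg.Agent.Lib.Char Cfsg.Agent.Lib.Blocks
open scoped ComplexConjugate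

universe u

section Index

variable {G : Type*} [Group G] [Finite G]

theorem relIndex_sup_eq_relIndex_of_normal (H N : Subgroup G) [hN : N.Normal] :
    H.relIndex (H ⊔ N) = H.relIndex N := by
  have ia : (H ⊓ N).relIndex N * N.index = (H ⊓ N).index := relIndex_mul_index inf_le_right
  have ib : H.relIndex (H ⊔ N) * (H ⊔ N).index = H.index := relIndex_mul_index le_sup_left
  have ic : (H ⊓ N).relIndex H * H.index = (H ⊓ N).index := relIndex_mul_index inf_le_left
  have id : N.relIndex (H ⊔ N) * (H ⊔ N).index = N.index := relIndex_mul_index le_sup_right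
  rw [inf_relIndex_right] at ia
  rw [inf_relIndex_left] at ic
  rw [relIndex_sup_right] at id
  have hpos : 0 < (H ⊔ N).index := Nat.pos_of_ne_zero (index_ne_zero_of_finite)
  have hc : 0 < N.relIndex H := Nat.pos_of_ne_zero (by
    intro h0
    have : (H ⊓ N).index = 0 := by rw [← ic, h0, zero_mul]
    exact index_ne_zero_of_finite this)
  have h1 : (H.relIndex N) * (N.relIndex H * (H ⊔ N).index) =
      (H.relIndex (H ⊔ N)) * (N.relIndex H * (H ⊔ N).index) := by
    calc (H.relIndex N) * (N.relIndex H * (H ⊔ N).index) = (H.relIndex N) * N.index := by rw [id]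
      _ = (H ⊓ N).index := ia
      _ = N.relIndex H * H.index := ic.symm
      _ = (H.relIndex (H ⊔ N)) * (N.relIndex H * (H ⊔ N).index) := by rw [← ib]; ring
  exact (Nat.eq_of_mul_eq_mul_right (Nat.mul_pos hc hpos) h1).symm

theorem relIndex_dvd_index_of_normal_right (H N : Subgroup G) [hN : N.Normal] :
    H.relIndex N ∣ H.index := by
  rw [← relIndex_sup_eq_relIndex_of_normal]
  exact relIndex_dvd_index_of_le le_sup_left

/-- A Sylow `p`-subgroup acts transitively on the cosets of a subgroup of `p`-power index. -/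
theorem exists_mem_sylow_inv_mul_mem {p k : ℕ} [hp : Fact p.Prime] (C : Subgroup G)
    (hC : C.index = p ^ k) (S : Sylow p G) (g : G) :
    ∃ s ∈ (S : Subgroup G), s⁻¹ * g ∈ C := by
  classical
  let x0 : G ⧸ C := ((1 : G) : G ⧸ C)
  have hstab : MulAction.stabilizer (S : Subgroup G) x0 = C.subgroupOf (S : Subgroup G) := by
    ext s
    rw [MulAction.mem_stabilizer_iff, mem_subgroupOf]
    show ((((s : G) * 1 : G) : G ⧸ C)) = _ ↔ _
    rw [mul_one, QuotientGroup.eq]
    constructor
    · intro h
      simpa using h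
    · intro h
      simpa using h
  have horb : (MulAction.orbit (S : Subgroup G) x0).ncard = C.relIndex (S : Subgroup G) := by
    rw [← MulAction.index_stabilizer, hstab]
    rfl
  -- the size of `S ∩ C`
  have hSp : IsPGroup p (C.subgroupOf (S : Subgroup G)) := (S.isPGroup').to_subgroup _
  obtain ⟨t, ht⟩ := IsPGroup.iff_card.mp hSp
  have hdvdC : p ^ t ∣ Nat.card C := by
    rw [← ht]
    have e : Nat.card (C.subgroupOf (S : Subgroup G)) = Nat.card ↥(C ⊓ (S : Subgroup G)) := by
      rw [← subgroupOf_map_subtype]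
      exact (Nat.card_congr (equivMapOfInjective _ _ (Subtype.val_injective)).toEquiv)
    rw [e]
    exact Subgroup.card_dvd_of_le inf_le_left
  have hdvdG : p ^ (t + k) ∣ Nat.card G := by
    rw [← Subgroup.card_mul_index C, hC, pow_add]
    exact mul_dvd_mul_right hdvdC _
  have hdvdS : p ^ (t + k) ∣ Nat.card (S : Subgroup G) := S.pow_dvd_card_of_pow_dvd_card hdvdG
  have hmul : Nat.card (C.subgroupOf (S : Subgroup G)) * C.relIndex (S : Subgroup G) =
      Nat.card (S : Subgroup G) := Subgroup.card_mul_index _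
  rw [ht] at hmul
  have hk : p ^ k ∣ C.relIndex (S : Subgroup G) := by
    rw [← hmul, pow_add] at hdvdS
    exact Nat.dvd_of_mul_dvd_mul_left (pow_pos hp.out.pos t) hdvdS
  have hrel : 0 < C.relIndex (S : Subgroup G) := Nat.pos_of_ne_zero (by
    intro h0
    rw [h0, mul_zero] at hmul
    exact (Nat.card_pos (α := (S : Subgroup G))).ne hmul)
  have hle : p ^ k ≤ (MulAction.orbit (S : Subgroup G) x0).ncard := by
    rw [horb]; exact Nat.le_of_dvd hrel hk
  have huniv : MulAction.orbit (S : Subgroup G) x0 = Set.univ := by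
    apply Set.eq_of_subset_of_ncard_le (Set.subset_univ _) _ (Set.toFinite _)
    rw [Set.ncard_univ]
    have hcard : Nat.card (G ⧸ C) = p ^ k := by rw [← hC]; rfl
    rw [hcard]
    exact hle
  have hg : ((g : G) : G ⧸ C) ∈ MulAction.orbit (S : Subgroup G) x0 := by rw [huniv]; trivial
  obtain ⟨s, hs⟩ := hg
  refine ⟨s, s.2, ?_⟩
  have h2 : (((s : G) * 1 : G) : G ⧸ C) = (g : G ⧸ C) := hs
  rw [mul_one, QuotientGroup.eq] at h2
  exact h2

end Index

section Sylow

variable {G : Type*} [Group G] [Finite G]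

/-- If `x` has a class of `p`-power size and normalizes a Sylow `p`-subgroup `S`, then the commutators
`x⁻¹ x^g` lie in `S`. -/
theorem inv_mul_conj_mem_of_normalizes {p k : ℕ} [hp : Fact p.Prime] (x : G)
    (hx : (centralizer ({x} : Set G)).index = p ^ k) (S : Sylow p G)
    (hS : x ∈ normalizer ((S : Subgroup G) : Set G)) (g : G) :
    x⁻¹ * (g * x * g⁻¹) ∈ (S : Subgroup G) := by
  obtain ⟨s, hs, hc⟩ := exists_mem_sylow_inv_mul_mem (centralizer ({x} : Set G)) hx S g
  have hc' : s⁻¹ * g * x = x * (s⁻¹ * g) := mem_centralizer_singleton_iff.mp hc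
  have h1 : g * x * g⁻¹ = s * x * s⁻¹ := by
    have hg : g = s * (s⁻¹ * g) := by group
    calc g * x * g⁻¹ = s * ((s⁻¹ * g) * x) * g⁻¹ := by group
      _ = s * (x * (s⁻¹ * g)) * g⁻¹ := by rw [hc']
      _ = s * x * s⁻¹ := by group
  rw [h1]
  have h2 : x⁻¹ * s * x ∈ (S : Subgroup G) := by
    have h3 := (mem_normalizer_iff.mp hS) (x⁻¹ * s * x)
    have h4 : x * (x⁻¹ * s * x) * x⁻¹ = s := by group
    rw [h4] at h3
    exact h3.mpr hs
  have h5 : x⁻¹ * (s * x * s⁻¹) = (x⁻¹ * s * x) * s⁻¹ := by group
  rw [h5]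
  exact mul_mem h2 (inv_mem hs)

/-- The subgroup generated by the elements `x⁻¹ x^g`. -/
def commSet (x : G) : Subgroup G := closure {y | ∃ g : G, y = x⁻¹ * (g * x * g⁻¹)}

theorem commSet_normal (x : G) : (commSet x).Normal := by
  constructor
  intro n hn h
  unfold commSet at hn ⊢
  induction hn using closure_induction with
  | mem y hy =>
    obtain ⟨g, rfl⟩ := hy
    have e : h * (x⁻¹ * (g * x * g⁻¹)) * h⁻¹ =
        (x⁻¹ * (h * x * h⁻¹))⁻¹ * (x⁻¹ * ((h * g) * x * (h * g)⁻¹)) := by group
    rw [e]
    exact mul_mem (inv_mem (subset_closure ⟨h, rfl⟩)) (subset_closure ⟨h * g, rfl⟩)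
  | one => simp
  | mul a b _ _ ha hb =>
    have e : h * (a * b) * h⁻¹ = (h * a * h⁻¹) * (h * b * h⁻¹) := by group
    rw [e]
    exact mul_mem ha hb
  | inv a _ ha =>
    have e : h * a⁻¹ * h⁻¹ = (h * a * h⁻¹)⁻¹ := by group
    rw [e]
    exact inv_mem ha

theorem normalClosure_le_commSet_sup (x : G) :
    normalClosure ({x} : Set G) ≤ commSet x ⊔ zpowers x := by
  unfold normalClosure
  rw [closure_le]
  intro y hy
  obtain ⟨a, ha, hc⟩ := Group.mem_conjugatesOfSet_iff.mp hy
  rw [Set.mem_singleton_iff] at ha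
  subst ha
  obtain ⟨c, rfl⟩ := isConj_iff.mp hc
  have e : c * a * c⁻¹ = a * (a⁻¹ * (c * a * c⁻¹)) := by group
  show c * a * c⁻¹ ∈ commSet a ⊔ zpowers a
  rw [e]
  exact mul_mem (mem_sup_right (mem_zpowers a)) (mem_sup_left (subset_closure ⟨c, rfl⟩))

theorem isSolvable_of_le {H K : Subgroup G} (h : H ≤ K) (hK : Group.IsSolvable K) :
    Group.IsSolvable H :=
  Group.isSolvable_of_isSolvable_injective (Subgroup.inclusion_injective h)

/-- If `x` has a class of `p`-power size and normalizes a Sylow `p`-subgroup, its normal closure is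
solvable. -/
theorem isSolvable_normalClosure_of_normalizes {p k : ℕ} [hp : Fact p.Prime] (x : G)
    (hx : (centralizer ({x} : Set G)).index = p ^ k) (S : Sylow p G)
    (hS : x ∈ normalizer ((S : Subgroup G) : Set G)) :
    Group.IsSolvable (normalClosure ({x} : Set G)) := by
  have hle : commSet x ≤ (S : Subgroup G) := by
    unfold commSet
    rw [closure_le]
    rintro y ⟨g, rfl⟩
    exact inv_mul_conj_mem_of_normalizes x hx S hS g
  have hpg : IsPGroup p (commSet x) := (S.isPGroup').to_le hle
  have hsol : Group.IsSolvable (commSet x) := by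
    haveI := hpg.isNilpotent
    infer_instance
  have hn := commSet_normal x
  have hsz : Group.IsSolvable (zpowers x) := by
    haveI : IsMulCommutative (zpowers x) := inferInstance
    exact Group.isSolvable_of_comm (fun a b => mul_comm' a b)
  have := Cfsg.Agent.Lib.Components.isSolvable_sup_of_le_normalizer (X := commSet x) (Y := zpowers x)
    (by rw [Subgroup.normalizer_eq_top_iff.mpr hn]; exact le_top) hsol hsz
  exact isSolvable_of_le (normalClosure_le_commSet_sup x) this

end Sylow

section Radical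

variable {H : Type*} [Group H] [Finite H]

/-- The solvable radical of a finite group. -/
theorem exists_solvable_radical :
    ∃ R : Subgroup H, R.Characteristic ∧ Group.IsSolvable R ∧
      ∀ L : Subgroup H, L.Normal → Group.IsSolvable L → L ≤ R := by
  classical
  let S : Set (Subgroup H) := {L | L.Normal ∧ Group.IsSolvable L}
  have hne : S.Nonempty := ⟨⊥, inferInstance, inferInstance⟩
  obtain ⟨R, hR⟩ := (Set.toFinite S).exists_maximal hne
  have hR1 : R.Normal := hR.prop.1
  have hR2 : Group.IsSolvable R := hR.prop.2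
  have hmax : ∀ L : Subgroup H, L.Normal → Group.IsSolvable L → L ≤ R := by
    intro L hL hLs
    have h1 : (R ⊔ L).Normal := Subgroup.sup_normal R L
    have h2 : Group.IsSolvable ↥(R ⊔ L) :=
      Cfsg.Agent.Lib.Components.isSolvable_sup_of_le_normalizer (X := R) (Y := L)
        (by rw [Subgroup.normalizer_eq_top_iff.mpr hR1]; exact le_top) hR2 hLs
    have h3 := hR.le_of_ge ⟨h1, h2⟩ le_sup_left
    exact le_trans le_sup_right h3
  refine ⟨R, ?_, hR2, hmax⟩
  rw [characteristic_iff_map_le]
  intro φ
  apply hmax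
  · exact hR1.map _ φ.surjective
  · have e : ↥(R.map φ.toMonoidHom) ≃* R := (R.equivMapOfInjective φ.toMonoidHom φ.injective).symm
    exact Group.isSolvable_of_isSolvable_injective (f := e.toMonoidHom) e.injective

variable {G : Type*} [Group G] [Finite G]

/-- A non-solvable minimal normal subgroup has no nontrivial solvable subgroup normal in it. -/
theorem false_of_solvable_normal_in_minimal (N : Subgroup G) [hN : N.Normal]
    (hmin : ∀ L : Subgroup G, L.Normal → L ≤ N → L = ⊥ ∨ L = N)
    (hNs : ¬ Group.IsSolvable N) (W : Subgroup G) (hWN : W ≤ N)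
    (hWn : ∀ n ∈ N, ∀ w ∈ W, n * w * n⁻¹ ∈ W) (hWs : Group.IsSolvable W) (hW1 : W ≠ ⊥) : False := by
  obtain ⟨R, hRc, hRs, hRmax⟩ := exists_solvable_radical (H := N)
  have hRnorm : (R.map N.subtype).Normal := by
    constructor
    intro n hn g
    obtain ⟨r, hr, rfl⟩ := hn
    refine ⟨MulAut.conjNormal g r, ?_, ?_⟩
    · have h1 := hRc.fixed (MulAut.conjNormal g)
      rw [← h1] at hr
      exact hr
    · simp
  have hW' : Group.IsSolvable (W.subgroupOf N) :=
    Group.isSolvable_of_isSolvable_injective (f := (Subgroup.subgroupOfEquivOfLe hWN).toMonoidHom)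
      (Subgroup.subgroupOfEquivOfLe hWN).injective
  have hWnorm : (W.subgroupOf N).Normal := by
    constructor
    intro n hn g
    rw [mem_subgroupOf] at hn ⊢
    exact hWn g g.2 n hn
  have hle := hRmax _ hWnorm hW'
  have hRmapne : R.map N.subtype ≠ ⊥ := by
    intro hb
    apply hW1
    rw [eq_bot_iff]
    intro w hw
    have h1 : (⟨w, hWN hw⟩ : N) ∈ R := hle (by rw [mem_subgroupOf]; exact hw)
    have h2 : w ∈ R.map N.subtype := ⟨_, h1, rfl⟩
    rwa [hb] at h2
  have hle2 : R.map N.subtype ≤ N := map_subtype_le R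
  rcases hmin _ hRnorm hle2 with h | h
  · exact hRmapne h
  · apply hNs
    have hRtop : R = ⊤ := by
      rw [eq_top_iff]
      intro n _
      have : (n : G) ∈ R.map N.subtype := by rw [h]; exact n.2
      obtain ⟨r, hr, hr2⟩ := this
      have : r = n := Subtype.ext hr2
      rwa [← this]
    rw [hRtop] at hRs
    exact Group.isSolvable_of_isSolvable_injective (f := (Subgroup.topEquiv (G := N)).symm.toMonoidHom)
      (Subgroup.topEquiv (G := N)).symm.injective

end Radical

section Char

variable {G : Type u} [Group G] [Fintype G]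

/-- `|χ(g)| = χ(1)` puts `[x, g]` into the kernel of `χ`. -/
theorem comm_mem_charKer_of_norm_eq {χ : G → ℂ} (hχ : IsIrrCharacter G χ) {d : ℕ}
    (hd : χ 1 = d) {g : G} (hg : ‖χ g‖ = (d : ℝ)) (x : G) :
    x * g * (g * x)⁻¹ ∈ charKer χ := by
  obtain ⟨n, ρ, hirr, hρ⟩ := hχ
  subst hρ
  have hfin : Module.finrank ℂ (Fin n → ℂ) = d := by
    have h2 : ρ.character 1 = (Module.finrank ℂ (Fin n → ℂ) : ℂ) := Representation.char_one ρ
    rw [hd] at h2
    exact_mod_cast h2.symm
  have h1' : ‖ρ.character g‖ = (Module.finrank ℂ (Fin n → ℂ) : ℝ) := by rw [hfin]; exact hg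
  obtain ⟨ω, hω⟩ := (norm_character_eq_finrank_iff ρ g).mp h1'
  have hcomm' : ρ (x * g) = ρ (g * x) := by
    rw [map_mul, map_mul, hω]
    ext v
    simp
  rw [mem_charKer (isCharacter_character ρ), Representation.char_one]
  apply (character_eq_finrank_iff ρ _).mpr
  rw [map_mul, hcomm', ← map_mul, mul_inv_cancel, map_one]
  rfl

variable {M : Ideal AlgInt} {r : ℕ} [hr : Fact r.Prime]

theorem apply_ne_zero_of_mem_principalBlock (hM : IsPModular r M) {χ : IrrCharacter G}
    (hχ : χ ∈ principalBlock M G) (x : G) (hx : ¬ r ∣ (centralizer ({x} : Set G)).index) :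
    (χ : G → ℂ) x ≠ 0 := by
  haveI := isPrime_of_modular hM
  intro h0
  have h1 := (mem_principalBlock_iff.mp hχ) x
  have h2 : centralChar ((irrOne G : IrrCharacter G) : G → ℂ) x - centralChar (χ : G → ℂ) x =
      ((centralizer ({x} : Set G)).index : ℂ) := by
    simp [centralChar, h0]
  rw [h2] at h1
  exact natCast_not_memLocalIdeal hM hx h1

/-- Sum of the squares of the degrees of the characters over `G/N`. -/
theorem sum_sq_degree_of_le_charKer (N : Subgroup G) [hN : N.Normal] :
    open scoped Classical in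
    ∑ χ : IrrCharacter G, (if N ≤ charKer (χ : G → ℂ) then (χ : G → ℂ) 1 * (χ : G → ℂ) 1 else 0) =
      (N.index : ℂ) := by
  classical
  letI : Fintype N := Fintype.ofFinite _
  have h0 : ∑ n : N, ∑ χ : IrrCharacter G, (χ : G → ℂ) 1 * (χ : G → ℂ) (n : G) = (Nat.card G : ℂ) := by
    rw [Finset.sum_eq_single (1 : N)]
    · rw [sum_irr_degree_mul_apply]
      simp
    · intro n _ hn
      rw [sum_irr_degree_mul_apply, if_neg]
      intro h
      exact hn (Subtype.ext h)
    · simp
  rw [Finset.sum_comm] at h0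
  have h1 : ∀ χ : IrrCharacter G, ∑ n : N, (χ : G → ℂ) 1 * (χ : G → ℂ) (n : G) =
      (Nat.card N : ℂ) * (if N ≤ charKer (χ : G → ℂ) then (χ : G → ℂ) 1 * (χ : G → ℂ) 1 else 0) := by
    intro χ
    rw [← Finset.mul_sum]
    have h2 := sum_coset_irr N χ.2 1
    simp only [mul_one] at h2
    rw [h2]
    split_ifs <;> ring
  rw [Finset.sum_congr rfl (fun χ _ => h1 χ), ← Finset.mul_sum] at h0
  have h3 : (Nat.card N : ℂ) * (N.index : ℂ) = (Nat.card G : ℂ) := by
    exact_mod_cast Subgroup.card_mul_index N
  have h4 : (Nat.card N : ℂ) ≠ 0 := by exact_mod_cast (Nat.card_pos (α := N)).ne'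
  exact mul_left_cancel₀ h4 (h0.trans h3.symm)

end Char

section Block

variable {G : Type u} [Group G] [Fintype G]

theorem pPrimeCore_eq_bot_of_isPGroup {r : ℕ} [hr : Fact r.Prime] (Q : Type*) [Group Q] [Finite Q]
    (hQ : IsPGroup r Q) : pPrimeCore r Q = ⊥ := by
  have h1 := Cfsg.Agent.Lib.Basic.pPrimeCore_coprime (G := Q) r
  obtain ⟨i, hi⟩ := IsPGroup.iff_card.mp (hQ.to_subgroup (pPrimeCore r Q))
  rw [hi] at h1
  have h2 : i = 0 := by
    by_contra hne
    have h3 := Nat.dvd_gcd (dvd_pow_self r hne) (dvd_refl r)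
    rw [Nat.Coprime.gcd_eq_one h1] at h3
    exact hr.out.one_lt.ne' (Nat.dvd_one.mp h3)
  subst h2
  rw [pow_zero] at hi
  exact (Subgroup.card_eq_one).mp hi

/-- The contradiction inside the principal `r`-block. -/
theorem block_contra {p r k : ℕ} (hp : p.Prime) [hr : Fact r.Prime] (hpr : p ≠ r)
    (N : Subgroup G) [hN : N.Normal]
    (hmin : ∀ L : Subgroup G, L.Normal → L ≤ N → L = ⊥ ∨ L = N)
    (x : G) (hx : (centralizer ({x} : Set G)).index = p ^ k)
    (hGN : IsPGroup r (G ⧸ N)) (hrN : r ∣ Nat.card N)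
    (hnc : ∃ n ∈ N, n * x ≠ x * n) : False := by
  classical
  obtain ⟨M, hM⟩ := exists_isPModular hr.out
  haveI := isPrime_of_modular hM
  have hB : IsPBlock M (principalBlock M G) := isPBlock_principalBlock
  obtain ⟨y, hy⟩ : ∃ y : N, orderOf y = r := exists_prime_orderOf_dvd_card' r hrN
  have hyr : r ∣ orderOf (y : G) := by rw [Subgroup.orderOf_coe, hy]
  have horth := weak_block_orthogonality hM hB (x := (1 : G)) (y := (y : G))
    (by rw [orderOf_one]; exact hr.out.one_lt.ne' ∘ Nat.dvd_one.mp) hyr
  rw [finsum_mem_eq_sum_indic] at horth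
  have hT : ∀ χ : IrrCharacter G, N ≤ charKer (χ : G → ℂ) → χ ∈ principalBlock M G := by
    intro χ hle
    letI : Fintype (G ⧸ N) := Fintype.ofFinite _
    letI : Fintype N := Fintype.ofFinite _
    obtain ⟨β, hβ, hχβ⟩ := exists_deflate N χ.2 hle
    have hsolvQ : Group.IsSolvable (G ⧸ N) := by
      haveI := hGN.isNilpotent
      infer_instance
    have hps : IsPSolvable r (G ⧸ N) :=
      Cfsg.Agent.Lib.Struct.isPSolvable_of_isSolvable r _ _ rfl hsolvQ
    have hcore : pPrimeCore r (G ⧸ N) = ⊥ := pPrimeCore_eq_bot_of_isPGroup _ hGN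
    have h1 := mem_principalBlock_of_le_charKer (G := G ⧸ N) (χ := ⟨β, hβ⟩) hM hps
      (by rw [hcore]; exact bot_le)
    have h2 := SameBlock.inflate N (mem_principalBlock_iff.mp h1)
    rw [mem_principalBlock_iff]
    have h3 : ((irrOne G : IrrCharacter G) : G → ℂ) =
        inflate N ((irrOne (G ⧸ N) : IrrCharacter _) : _ → ℂ) := rfl
    rw [h3, hχβ]
    exact h2
  have hrdvd : ¬ r ∣ (centralizer ({x} : Set G)).index := by
    rw [hx]
    intro h
    exact hpr ((Nat.prime_dvd_prime_iff_eq hr.out hp).mp (hr.out.dvd_of_dvd_pow h)).symm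
  have hdeg : ∀ χ ∈ principalBlock M G, p ∣ charDegree (χ : G → ℂ) ∨ N ≤ charKer (χ : G → ℂ) := by
    intro χ hχ
    by_cases hpd : p ∣ charDegree (χ : G → ℂ)
    · exact Or.inl hpd
    right
    have hne := apply_ne_zero_of_mem_principalBlock hM hχ x hrdvd
    have hd := apply_one_eq_charDegree (IsIrrCharacter.isCharacter χ.2)
    have hcop : Nat.Coprime (charDegree (χ : G → ℂ)) (centralizer ({x} : Set G)).index := by
      rw [hx]
      exact Nat.Coprime.pow_right k ((Nat.Prime.coprime_iff_not_dvd hp).mpr hpd).symm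
    have hnorm := (apply_eq_zero_or_norm_eq_of_coprime χ.2 hd x hcop).resolve_left hne
    haveI hkerN := charKer_normal (IsIrrCharacter.isCharacter χ.2)
    rcases hmin (N ⊓ charKer (χ : G → ℂ)) inferInstance inf_le_left with h | h
    · exfalso
      obtain ⟨n, hn, hnx⟩ := hnc
      have h1 := comm_mem_charKer_of_norm_eq χ.2 hd hnorm n
      have h2 : n * x * (x * n)⁻¹ ∈ N := by
        have e : n * x * (x * n)⁻¹ = n * (x * n⁻¹ * x⁻¹) := by group
        rw [e]
        exact mul_mem hn (hN.conj_mem _ (inv_mem hn) x)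
      have h3 : n * x * (x * n)⁻¹ ∈ N ⊓ charKer (χ : G → ℂ) := ⟨h2, h1⟩
      rw [h, mem_bot, mul_inv_eq_one] at h3
      exact hnx h3
    · exact inf_eq_left.mp h
  have hterm : ∀ χ : IrrCharacter G, ∃ γ : ℂ, IsIntegral ℤ γ ∧
      indic (principalBlock M G) χ * ((χ : G → ℂ) 1 * conj ((χ : G → ℂ) (y : G))) =
        (if N ≤ charKer (χ : G → ℂ) then (χ : G → ℂ) 1 * (χ : G → ℂ) 1 else 0) + (p : ℂ) * γ := by
    intro χ
    have hd := apply_one_eq_charDegree (IsIrrCharacter.isCharacter χ.2)
    by_cases hle : N ≤ charKer (χ : G → ℂ)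
    · refine ⟨0, isIntegral_zero, ?_⟩
      rw [if_pos hle, indic_apply_of_mem (hT χ hle), mul_zero, add_zero, one_mul]
      have hyk : (χ : G → ℂ) (y : G) = (χ : G → ℂ) 1 :=
        (mem_charKer (IsIrrCharacter.isCharacter χ.2)).mp (hle y.2)
      rw [hyk, hd]
      simp
    · rw [if_neg hle]
      simp only [zero_add]
      by_cases hχB : χ ∈ principalBlock M G
      · obtain ⟨c, hc⟩ := (hdeg χ hχB).resolve_right hle
        refine ⟨(c : ℂ) * conj ((χ : G → ℂ) (y : G)), ?_, ?_⟩
        · refine IsIntegral.mul isIntegral_algebraMap ?_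
          rw [← IsCharacter.apply_inv (IsIrrCharacter.isCharacter χ.2)]
          exact IsCharacter.isIntegral (IsIrrCharacter.isCharacter χ.2) _
        · rw [indic_apply_of_mem hχB, one_mul, hd, hc]
          push_cast
          ring
      · refine ⟨0, isIntegral_zero, ?_⟩
        rw [indic_apply_of_notMem hχB]
        simp
  choose γ hγ1 hγ2 using hterm
  rw [Finset.sum_congr rfl (fun χ _ => hγ2 χ), Finset.sum_add_distrib, sum_sq_degree_of_le_charKer,
    ← Finset.mul_sum] at horth
  obtain ⟨d, hd⟩ := IsPGroup.iff_card.mp hGN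
  have hindex : (N.index : ℂ) = ((r ^ d : ℕ) : ℂ) := by
    have : N.index = r ^ d := by rw [← hd]; rfl
    rw [this]
  rw [hindex] at horth
  have hp0 : (p : ℂ) ≠ 0 := by exact_mod_cast hp.ne_zero
  have h1 : ((r ^ d : ℕ) : ℂ) / (p : ℂ) = - ∑ χ, γ χ := by
    field_simp
    linear_combination horth
  have h2 : IsIntegral ℤ (((r ^ d : ℕ) : ℂ) / (p : ℂ)) := by
    rw [h1]
    exact (IsIntegral.sum _ fun χ _ => hγ1 χ).neg
  have h3 := H8Group.nat_dvd_of_isIntegral_div hp.ne_zero h2
  exact hpr ((Nat.prime_dvd_prime_iff_eq hp hr.out).mp (hp.dvd_of_dvd_pow h3))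

end Block

section Main

theorem isSolvable_of_map_of_inf {G : Type*} [Group G] (K N : Subgroup G) [hN : N.Normal]
    (h1 : Group.IsSolvable ↥(K ⊓ N)) (h2 : Group.IsSolvable ↥(K.map (QuotientGroup.mk' N))) :
    Group.IsSolvable K := by
  let f : ↥(K ⊓ N) →* K := inclusion inf_le_left
  let g : K →* ↥(K.map (QuotientGroup.mk' N)) := (QuotientGroup.mk' N).subgroupMap K
  refine Group.isSolvable_of_ker_le_range f g ?_
  intro k hk
  have hk' : ((k : G) : G ⧸ N) = 1 := by
    have := congrArg Subtype.val ((MonoidHom.mem_ker).mp hk)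
    exact this
  have hkN : (k : G) ∈ N := (QuotientGroup.eq_one_iff _).mp hk'
  exact ⟨⟨k, k.2, hkN⟩, rfl⟩

theorem exists_minimal_normal {G : Type*} [Group G] [Finite G] [Nontrivial G] :
    ∃ N : Subgroup G, N.Normal ∧ N ≠ ⊥ ∧ ∀ L : Subgroup G, L.Normal → L ≤ N → L = ⊥ ∨ L = N := by
  let S : Set (Subgroup G) := {N | N.Normal ∧ N ≠ ⊥}
  have hne : S.Nonempty := ⟨⊤, inferInstance, top_ne_bot⟩
  obtain ⟨N, hN⟩ := (Set.toFinite S).exists_minimal hne
  refine ⟨N, hN.prop.1, hN.prop.2, fun L hL hle => ?_⟩
  by_cases hb : L = ⊥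
  · exact Or.inl hb
  · exact Or.inr (le_antisymm hle (hN.le_of_le ⟨hL, hb⟩ hle))

theorem index_centralizer_quotient_dvd {G : Type*} [Group G] (N : Subgroup G) [hN : N.Normal] (g : G) :
    (centralizer ({(g : G ⧸ N)} : Set (G ⧸ N))).index ∣ (centralizer ({g} : Set G)).index := by
  have h1 : ((centralizer ({(g : G ⧸ N)} : Set (G ⧸ N))).comap (QuotientGroup.mk' N)).index =
      (centralizer ({(g : G ⧸ N)} : Set (G ⧸ N))).index :=
    index_comap_of_surjective _ (QuotientGroup.mk'_surjective N)
  rw [← h1]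
  apply index_dvd_of_le
  intro x hx
  rw [mem_comap, mem_centralizer_singleton_iff]
  have := mem_centralizer_singleton_iff.mp hx
  show ((x : G ⧸ N)) * (g : G ⧸ N) = (g : G ⧸ N) * (x : G ⧸ N)
  rw [← QuotientGroup.mk_mul, ← QuotientGroup.mk_mul, this]

theorem normalClosure_one {G : Type*} [Group G] :
    normalClosure ({(1 : G)} : Set G) = ⊥ := by
  apply le_bot_iff.mp
  apply normalClosure_le_normal
  simp

theorem isSolvable_of_comm_on {G : Type*} [Group G] (N : Subgroup G)
    (h : ∀ a ∈ N, ∀ b ∈ N, a * b = b * a) : Group.IsSolvable N :=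
  Group.isSolvable_of_comm (fun a b => Subtype.ext (h a a.2 b b.2))

/-- The inductive step, for elements of prime power order `r ^ c` with `r ≠ p`. -/
theorem step {G : Type u} [Group G] [Finite G]
    (IH : ∀ (H : Type u) [Group H] [Finite H], Nat.card H < Nat.card G → ∀ (x : H) (p k : ℕ), p.Prime →
      (centralizer ({x} : Set H)).index = p ^ k → Group.IsSolvable (normalClosure ({x} : Set H)))
    (x : G) (p r k c : ℕ) (hp : p.Prime) (hr : r.Prime) (hpr : p ≠ r) (hord : orderOf x = r ^ c)
    (hx : (centralizer ({x} : Set G)).index = p ^ k) :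
    Group.IsSolvable (normalClosure ({x} : Set G)) := by
  classical
  haveI : Fact p.Prime := ⟨hp⟩
  haveI : Fact r.Prime := ⟨hr⟩
  by_cases hx1 : x = 1
  · subst hx1
    rw [normalClosure_one]
    infer_instance
  haveI : Nontrivial G := ⟨⟨x, 1, hx1⟩⟩
  obtain ⟨N, hNn, hN1, hmin⟩ := exists_minimal_normal (G := G)
  haveI := hNn
  set K := normalClosure ({x} : Set G) with hK
  haveI hKn : K.Normal := normalClosure_normal
  have hcardN : 1 < Nat.card N := (Subgroup.one_lt_card_iff_ne_bot N).mpr hN1
  have hQcard : Nat.card (G ⧸ N) < Nat.card G := by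
    have h1 := Subgroup.card_mul_index N
    have h2 : Nat.card (G ⧸ N) = N.index := rfl
    rw [h2]
    have h3 : 0 < N.index := Nat.pos_of_ne_zero index_ne_zero_of_finite
    nlinarith
  have hQ : Group.IsSolvable ↥(K.map (QuotientGroup.mk' N)) := by
    rw [hK, map_normalClosure _ _ (QuotientGroup.mk'_surjective N), Set.image_singleton]
    obtain ⟨j, -, hj⟩ := (Nat.dvd_prime_pow hp).mp
      ((index_centralizer_quotient_dvd N x).trans (dvd_of_eq hx))
    exact IH (G ⧸ N) hQcard _ p j hp hj
  by_cases hS : Group.IsSolvable ↥(K ⊓ N)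
  · exact isSolvable_of_map_of_inf K N hS hQ
  exfalso
  have hNK : N ≤ K := by
    rcases hmin (K ⊓ N) inferInstance inf_le_right with h | h
    · exfalso
      apply hS
      rw [h]
      infer_instance
    · exact inf_eq_right.mp h
  have hNs : ¬ Group.IsSolvable N := by
    intro hs
    apply hS
    rw [inf_eq_right.mpr hNK]
    exact hs
  -- `x` does not centralize `N`
  have hnc : ∃ n ∈ N, n * x ≠ x * n := by
    by_contra hcon
    push Not at hcon
    apply hNs
    have hKc : K ≤ centralizer (N : Set G) := by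
      apply normalClosure_le_normal
      rw [Set.singleton_subset_iff]
      show x ∈ centralizer (N : Set G)
      rw [mem_centralizer_iff]
      intro n hn
      exact hcon n hn
    exact isSolvable_of_comm_on N fun a ha b hb =>
      (mem_centralizer_iff.mp (hKc (hNK ha))) b hb |>.symm
  by_cases hA : N ⊔ zpowers x = ⊤
  · -- `G = N⟨x⟩`
    have hGN : IsPGroup r (G ⧸ N) := by
      intro q
      obtain ⟨g, rfl⟩ := QuotientGroup.mk_surjective q
      refine ⟨c, ?_⟩
      have hg : g ∈ N ⊔ zpowers x := by rw [hA]; trivial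
      rw [← SetLike.mem_coe, normal_mul] at hg
      obtain ⟨n, hn, z, hz, rfl⟩ := hg
      obtain ⟨i, rfl⟩ := mem_zpowers_iff.mp hz
      have h1 : (((n * x ^ i : G)) : G ⧸ N) = ((x : G ⧸ N)) ^ i := by
        rw [QuotientGroup.mk_mul, (QuotientGroup.eq_one_iff n).mpr hn, one_mul]
        rfl
      rw [h1]
      have h2 : ((x : G ⧸ N)) ^ (r ^ c) = 1 := by
        rw [← QuotientGroup.mk_pow, ← hord, pow_orderOf_eq_one]
        rfl
      calc (((x : G ⧸ N)) ^ i) ^ (r ^ c) = (((x : G ⧸ N)) ^ (r ^ c)) ^ i := by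
            rw [← zpow_natCast, ← zpow_natCast, ← zpow_mul, ← zpow_mul, mul_comm]
        _ = 1 := by rw [h2, one_zpow]
    by_cases hrN : r ∣ Nat.card N
    · letI : Fintype G := Fintype.ofFinite G
      exact block_contra hp hpr N hmin x hx hGN hrN hnc
    · -- a Sylow `p`-subgroup normalized by `x`
      let S₀ : Sylow p G := default
      have hS₀ : (S₀ : Subgroup G) ≤ N := by
        intro s hs
        obtain ⟨a, ha⟩ := (S₀.isPGroup') ⟨s, hs⟩
        obtain ⟨b, hb⟩ := hGN (s : G ⧸ N)
        have ha' : s ^ p ^ a = 1 := by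
          have := congrArg Subtype.val ha
          simpa using this
        have h1 : ((s : G ⧸ N)) ^ (p ^ a) = 1 := by
          rw [← QuotientGroup.mk_pow, ha']
          rfl
        have h2 := orderOf_dvd_of_pow_eq_one h1
        have h3 := orderOf_dvd_of_pow_eq_one hb
        have h4 : Nat.Coprime (p ^ a) (r ^ b) :=
          Nat.Coprime.pow _ _ ((Nat.coprime_primes hp hr).mpr hpr)
        have h5 : orderOf (s : G ⧸ N) = 1 := Nat.eq_one_of_dvd_coprimes h4 h2 h3
        rw [orderOf_eq_one_iff] at h5
        exact (QuotientGroup.eq_one_iff s).mp h5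
      have hsup := Sylow.normalizer_sup_eq_top' S₀ hS₀
      have hnd : ¬ r ∣ Nat.card (Sylow p G) := by
        rw [S₀.card_eq_index_normalizer]
        intro h
        apply hrN
        have h1 : ∀ D : Subgroup G, D ⊔ N = ⊤ → D.index = D.relIndex N := by
          intro D hD
          rw [← relIndex_sup_eq_relIndex_of_normal, hD, relIndex_top_right]
        rw [h1 _ hsup] at h
        exact h.trans (relIndex_dvd_card _ _)
      have hzp : IsPGroup r (zpowers x) := IsPGroup.of_card (n := c) (by rw [Nat.card_zpowers, hord])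
      obtain ⟨S, hS'⟩ := hzp.nonempty_fixed_point_of_prime_not_dvd_card (Sylow p G) hnd
      have h1 := hS' ⟨x, mem_zpowers x⟩
      have h2 : x • S = S := h1
      rw [Sylow.smul_eq_iff_mem_normalizer] at h2
      apply hS
      exact isSolvable_of_le inf_le_left (isSolvable_normalClosure_of_normalizes x hx S h2)
  · -- `N⟨x⟩` is proper
    set A := N ⊔ zpowers x with hAdef
    have hNA : N ≤ A := le_sup_left
    have hxA : x ∈ A := mem_sup_right (mem_zpowers x)
    have hcardA : Nat.card A < Nat.card G := by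
      have h1 := Subgroup.card_mul_index A
      have h2 : A.index ≠ 1 := fun h => hA (index_eq_one.mp h)
      have h3 : A.index ≠ 0 := index_ne_zero_of_finite
      have h4 : 0 < Nat.card A := Nat.card_pos
      have h5 : 2 ≤ A.index := by omega
      nlinarith
    let x' : A := ⟨x, hxA⟩
    set C := centralizer ({x} : Set G) with hC
    have hcent : centralizer ({x'} : Set A) = C.subgroupOf A := by
      ext y
      rw [mem_centralizer_singleton_iff, mem_subgroupOf, hC, mem_centralizer_singleton_iff]
      exact ⟨fun h => congrArg Subtype.val h, fun h => Subtype.ext h⟩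
    have hrel : C.relIndex A ∣ C.index := by
      have hJ : (C ⊓ A) ⊔ N = A := by
        apply le_antisymm (sup_le inf_le_right hNA)
        apply sup_le le_sup_right
        rw [zpowers_le]
        exact mem_sup_left ⟨mem_centralizer_singleton_iff.mpr rfl, hxA⟩
      have h1 : C.relIndex A = (C ⊓ A).relIndex A := (inf_relIndex_right C A).symm
      have h2 : (C ⊓ A).relIndex A = (C ⊓ A).relIndex ((C ⊓ A) ⊔ N) := by rw [hJ]
      have h3 := relIndex_sup_eq_relIndex_of_normal (C ⊓ A) N
      have h4 : (C ⊓ A).relIndex N = C.relIndex N := by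
        rw [← inf_relIndex_right (C ⊓ A) N, ← inf_relIndex_right C N, inf_assoc,
          inf_eq_right.mpr hNA]
      rw [h1, h2, h3, h4]
      exact relIndex_dvd_index_of_normal_right C N
    obtain ⟨j, -, hj⟩ := (Nat.dvd_prime_pow hp).mp (hrel.trans (dvd_of_eq hx))
    have hidx : (centralizer ({x'} : Set A)).index = p ^ j := by rw [hcent]; exact hj
    have hV := IH A hcardA x' p j hp hidx
    set V := normalClosure ({x'} : Set A) with hVdef
    haveI hVn : V.Normal := normalClosure_normal
    let W := V.map A.subtype ⊓ N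
    refine false_of_solvable_normal_in_minimal N hmin hNs W inf_le_right ?_ ?_ ?_
    · intro n hn w hw
      obtain ⟨⟨v, hv, rfl⟩, hwN⟩ := hw
      exact ⟨⟨(⟨n, hNA hn⟩ : A) * v * (⟨n, hNA hn⟩ : A)⁻¹, hVn.conj_mem v hv _, rfl⟩,
        hNn.conj_mem _ hwN n⟩
    · have h1 : Group.IsSolvable ↥(V.map A.subtype) :=
        Group.isSolvable_of_isSolvable_injective
          (f := (V.equivMapOfInjective A.subtype A.subtype_injective).symm.toMonoidHom)
          (V.equivMapOfInjective A.subtype A.subtype_injective).symm.injective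
      exact isSolvable_of_le inf_le_left h1
    · obtain ⟨n, hn, hnx⟩ := hnc
      intro hb
      have hxV : x' ∈ V := subset_normalClosure (Set.mem_singleton _)
      have ht : n * x * n⁻¹ * x⁻¹ ∈ W := by
        refine ⟨⟨(⟨n, hNA hn⟩ : A) * x' * (⟨n, hNA hn⟩ : A)⁻¹ * x'⁻¹,
          mul_mem (hVn.conj_mem x' hxV _) (inv_mem hxV), rfl⟩, ?_⟩
        have e : n * x * n⁻¹ * x⁻¹ = n * (x * n⁻¹ * x⁻¹) := by group
        rw [e]
        exact mul_mem hn (hNn.conj_mem _ (inv_mem hn) x)
      rw [hb, mem_bot, mul_inv_eq_one, mul_inv_eq_iff_eq_mul] at ht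
      exact hnx ht

/-- **Kazarin's theorem.** -/
theorem kazarin_aux : ∀ (n : ℕ) (G : Type u) [Group G] [Finite G], Nat.card G = n → ∀ (x : G) (p k : ℕ),
    p.Prime → (centralizer ({x} : Set G)).index = p ^ k → Group.IsSolvable (normalClosure ({x} : Set G)) := by
  intro n
  induction n using Nat.strong_induction_on with
  | _ n ih =>
    intro G _ _ hn
    have IH : ∀ (H : Type u) [Group H] [Finite H], Nat.card H < Nat.card G → ∀ (x : H) (p k : ℕ), p.Prime →
        (centralizer ({x} : Set H)).index = p ^ k → Group.IsSolvable (normalClosure ({x} : Set H)) := by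
      intro H _ _ hH
      exact ih _ (hn ▸ hH) H rfl
    -- induction on the order of `x`
    have hord : ∀ (m : ℕ) (x : G), orderOf x = m → ∀ p k : ℕ, p.Prime →
        (centralizer ({x} : Set G)).index = p ^ k → Group.IsSolvable (normalClosure ({x} : Set G)) := by
      intro m
      induction m using Nat.strong_induction_on with
      | _ m ihm =>
        intro x hxm p k hp hx
        haveI : Fact p.Prime := ⟨hp⟩
        have hpow : ∀ j : ℕ, ∃ i : ℕ, (centralizer ({x ^ j} : Set G)).index = p ^ i := by
          intro j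
          have hle : centralizer ({x} : Set G) ≤ centralizer ({x ^ j} : Set G) := by
            intro y hy
            rw [mem_centralizer_singleton_iff] at hy ⊢
            exact ((Commute.pow_left (show Commute x y from hy.symm) j).symm).eq
          obtain ⟨i, -, hi⟩ := (Nat.dvd_prime_pow hp).mp ((index_dvd_of_le hle).trans (dvd_of_eq hx))
          exact ⟨i, hi⟩
        by_cases hx1 : x = 1
        · subst hx1
          rw [normalClosure_one]
          infer_instance
        have hm1 : m ≠ 1 := by
          intro h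
          exact hx1 (orderOf_eq_one_iff.mp (hxm.trans h))
        have hm0 : m ≠ 0 := by
          rw [← hxm]
          exact (orderOf_pos x).ne'
        obtain ⟨r, hr, hrm⟩ := Nat.exists_prime_and_dvd hm1
        obtain ⟨c, b, hrb, hmb⟩ := Nat.exists_eq_pow_mul_and_not_dvd hm0 r hr.ne_one
        by_cases hb1 : b = 1
        · -- prime power order
          subst hb1
          rw [mul_one] at hmb
          by_cases hpr : p = r
          · subst hpr
            have hzp : IsPGroup p (zpowers x) :=
              IsPGroup.of_card (n := c) (by rw [Nat.card_zpowers, hxm, hmb])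
            obtain ⟨S, hS⟩ := hzp.exists_le_sylow
            exact isSolvable_normalClosure_of_normalizes x hx S
              (le_normalizer (hS (mem_zpowers x)))
          · exact step IH x p r k c hp hr hpr (hxm.trans hmb) hx
        · -- two coprime parts
          have hb0 : b ≠ 0 := by
            rintro rfl
            simp at hmb
            exact hm0 hmb
          have hc0 : c ≠ 0 := by
            rintro rfl
            rw [pow_zero, one_mul] at hmb
            exact hrb (hmb ▸ hrm)
          have hrc : 1 < r ^ c := Nat.one_lt_pow hc0 hr.one_lt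
          have hb2 : 1 < b := by omega
          have hcop : Nat.Coprime (r ^ c) b := Nat.Coprime.pow_left _ ((Nat.Prime.coprime_iff_not_dvd hr).mpr hrb)
          have h1m : (x ^ b) ^ (r ^ c) = 1 := by
            rw [← pow_mul, mul_comm, ← hmb, ← hxm, pow_orderOf_eq_one]
          have h2m : (x ^ (r ^ c)) ^ b = 1 := by
            rw [← pow_mul, ← hmb, ← hxm, pow_orderOf_eq_one]
          have h1lt : orderOf (x ^ b) < m := by
            have := Nat.le_of_dvd (by positivity) (orderOf_dvd_of_pow_eq_one h1m)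
            rw [hmb]
            nlinarith
          have h2lt : orderOf (x ^ (r ^ c)) < m := by
            have := Nat.le_of_dvd (by positivity) (orderOf_dvd_of_pow_eq_one h2m)
            rw [hmb]
            nlinarith
          obtain ⟨i1, hi1⟩ := hpow b
          obtain ⟨i2, hi2⟩ := hpow (r ^ c)
          have hs1 := ihm _ h1lt (x ^ b) rfl p i1 hp hi1
          have hs2 := ihm _ h2lt (x ^ (r ^ c)) rfl p i2 hp hi2
          haveI hn1 : (normalClosure ({x ^ b} : Set G)).Normal := normalClosure_normal
          haveI hn2 : (normalClosure ({x ^ (r ^ c)} : Set G)).Normal := normalClosure_normal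
          have hsup := Cfsg.Agent.Lib.Components.isSolvable_sup_of_le_normalizer
            (X := normalClosure ({x ^ b} : Set G)) (Y := normalClosure ({x ^ (r ^ c)} : Set G))
            (by rw [Subgroup.normalizer_eq_top_iff.mpr hn1]; exact le_top) hs1 hs2
          refine isSolvable_of_le ?_ hsup
          apply normalClosure_le_normal
          rw [Set.singleton_subset_iff]
          show x ∈ normalClosure ({x ^ b} : Set G) ⊔ normalClosure ({x ^ (r ^ c)} : Set G)
          have hg := Nat.gcd_eq_gcd_ab b (r ^ c)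
          rw [Nat.Coprime.gcd_eq_one hcop.symm] at hg
          have hxe : x = (x ^ b) ^ (Nat.gcdA b (r ^ c)) * (x ^ (r ^ c)) ^ (Nat.gcdB b (r ^ c)) := by
            rw [← zpow_natCast, ← zpow_natCast, ← zpow_mul, ← zpow_mul, ← zpow_add, ← hg]
            simp
          have hmem : (x ^ b) ^ (Nat.gcdA b (r ^ c)) * (x ^ (r ^ c)) ^ (Nat.gcdB b (r ^ c)) ∈
              normalClosure ({x ^ b} : Set G) ⊔ normalClosure ({x ^ (r ^ c)} : Set G) :=
            mul_mem (mem_sup_left (zpow_mem (subset_normalClosure (Set.mem_singleton _)) _))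
              (mem_sup_right (zpow_mem (subset_normalClosure (Set.mem_singleton _)) _))
          rw [← hxe] at hmem
          exact hmem
    exact fun x p k hp hx => hord _ x rfl p k hp hx

/-- **Kazarin's theorem.** An element whose class has prime power size has solvable normal closure. -/
theorem isSolvable_normalClosure_of_index_eq_prime_pow {G : Type u} [Group G] [Finite G] (x : G) {p k : ℕ}
    (hp : p.Prime) (hx : (centralizer ({x} : Set G)).index = p ^ k) :
    Group.IsSolvable (normalClosure ({x} : Set G)) :=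
  kazarin_aux _ G rfl x p k hp hx

end Main

end Cfsg.Agent.Lib.Lead.Kazarin
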